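import Mathlib
import Groth.Agent.KrullAkizuki.Basic

/-!
# A discrete valuation ring dominating a Noetherian local domain
-/

universe u v

namespace Groth.Agent.DvrDom

open IsLocalRing

variable {L : Type v} [Field L]

/-- A valuation subring from a valuation ring inside `L` with fraction field `L`. -/
def ofSubalgebra {A : Type u} [CommRing A] [Algebra A L] (S : Subalgebra A L) [IsFractionRing S L]
    [ValuationRing S] : ValuationSubring L :=
  { S.toSubring with
    mem_or_inv_mem' := fun x => (ValuationRing.isInteger_or_isInteger S x).imp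
      (fun ⟨s, hs⟩ => hs ▸ s.2) (fun ⟨s, hs⟩ => hs ▸ s.2) }

/-- A one-dimensional Noetherian local domain with fraction field `L` is dominated by a
discrete valuation ring of `L` (Krull–Akizuki). -/
theorem exists_dvr_dim_one (R : Type u) [CommRing R] [IsDomain R] [IsNoetherianRing R]
    [IsLocalRing R] [Ring.KrullDimLE 1 R] (hR : ¬ IsField R) [Algebra R L] [IsFractionRing R L] :
    ∃ O : ValuationSubring L, IsDiscreteValuationRing O ∧ (∀ r, algebraMap R L r ∈ O) ∧
      ∀ r ∈ maximalIdeal R, O.valuation (algebraMap R L r) < 1 := by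
  let C := integralClosure R L
  let j : C →ₗ[R] (Fin 1 → L) := LinearMap.pi fun _ => C.val.toLinearMap
  have hj : Function.Injective j := fun a b h => Subtype.ext (congrFun h 0)
  haveI : IsNoetherianRing C := KrullAkizuki.isNoetherianRing_of_injective j hj
  haveI : Ring.DimensionLEOne C := KrullAkizuki.dimensionLEOne_of_injective j hj
  haveI : IsFractionRing C L := inferInstance
  haveI : IsIntegrallyClosed C :=
    (isIntegrallyClosed_iff L).mpr fun {x} hx =>
      ⟨⟨x, isIntegral_trans (R := R) x hx⟩, rfl⟩
  haveI : IsDedekindDomain C := { }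
  obtain ⟨M, hM⟩ := Ideal.exists_maximal C
  haveI := hM
  have hMR : M.comap (algebraMap R C) = maximalIdeal R :=
    eq_maximalIdeal (Ideal.isMaximal_comap_of_isIntegral_of_isMaximal M)
  have hM0 : M ≠ ⊥ := by
    intro h
    apply hR
    rw [isField_iff_maximalIdeal_eq, ← hMR, h, ← RingHom.ker_eq_comap_bot]
    exact (RingHom.injective_iff_ker_eq_bot _).mp fun a b hab =>
      IsFractionRing.injective R L (congrArg Subtype.val hab)
  have hS : M.primeCompl ≤ nonZeroDivisors C := Ideal.primeCompl_le_nonZeroDivisors M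
  let D := Localization.subalgebra.ofField L M.primeCompl hS
  haveI : IsDiscreteValuationRing D :=
    IsLocalization.AtPrime.isDiscreteValuationRing_of_dedekind_domain C hM0 D
  haveI : ValuationRing D := inferInstance
  have hdom : IsDiscreteValuationRing (ofSubalgebra D) :=
    show IsDiscreteValuationRing D from inferInstance
  have hmem : ∀ r, algebraMap R L r ∈ ofSubalgebra D := fun r =>
    D.algebraMap_mem (algebraMap R C r)
  refine ⟨ofSubalgebra D, hdom, hmem, fun r hr => ?_⟩
  rw [show algebraMap R L r = ((⟨_, hmem r⟩ : ofSubalgebra D) : L) from rfl,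
    ← ValuationSubring.valuation_lt_one_iff]
  have h1 : algebraMap C D (algebraMap R C r) ∈ maximalIdeal D :=
    (IsLocalization.AtPrime.to_map_mem_maximal_iff D M (algebraMap R C r)).mpr
      (show r ∈ M.comap (algebraMap R C) from hMR ▸ hr)
  exact h1

/-- A DVR of `L` dominating a Noetherian local domain `A` which is not a field, when `L` is
generated as a field over `A` by finitely many elements. -/
theorem exists_dvr (A : Type u) [CommRing A] [IsDomain A] [IsNoetherianRing A] [IsLocalRing A]
    (hA : ¬ IsField A) [Algebra A L] (hinj : Function.Injective (algebraMap A L)) (G : Finset L)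
    (hG : Subfield.closure (Set.range (algebraMap A L) ∪ (G : Set L)) = ⊤) :
    ∃ O : ValuationSubring L, IsDiscreteValuationRing O ∧ (∀ a, algebraMap A L a ∈ O) ∧
      ∀ a ∈ maximalIdeal A, O.valuation (algebraMap A L a) < 1 := by
  classical
  obtain ⟨V, hVA, hVloc⟩ := IsLocalRing.exists_factor_valuationRing (algebraMap A L)
  -- `a₀` generates `maximalIdeal A` in a suitable finitely generated extension inside `V`
  obtain ⟨s, hs⟩ := IsNoetherian.noetherian (maximalIdeal A)
  have hs0 : ∃ a ∈ s, a ≠ 0 := by
    by_contra! h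
    exact hA (isField_iff_maximalIdeal_eq.mpr (by rw [← hs, Submodule.span_eq_bot]; simpa using h))
  obtain ⟨a₁, ha₁s, ha₁⟩ := hs0
  obtain ⟨a₀, ha₀s, hmax⟩ :=
    s.exists_max_image (fun a => V.valuation (algebraMap A L a)) ⟨a₁, ha₁s⟩
  have ha₀ : algebraMap A L a₀ ≠ 0 := by
    intro h
    have := hmax a₁ ha₁s
    simp only [h, map_zero, le_zero_iff, map_eq_zero, map_eq_zero_iff _ hinj] at this
    exact ha₁ this
  have ha₀m : a₀ ∈ maximalIdeal A := hs ▸ Submodule.subset_span ha₀s
  let pick : L → L := fun g => if g ∈ V then g else g⁻¹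
  let gens : Set L := pick '' (G : Set L) ∪
    (fun a => algebraMap A L a / algebraMap A L a₀) '' (s : Set A)
  let T := Algebra.adjoin A gens
  have hfin : gens.Finite := (G.finite_toSet.image _).union (s.finite_toSet.image _)
  haveI : Algebra.FiniteType A T :=
    (Subalgebra.fg_iff_finiteType T).mp ⟨hfin.toFinset, by rw [hfin.coe_toFinset]⟩
  haveI : IsNoetherianRing T := Algebra.FiniteType.isNoetherianRing A T
  have hTV : ∀ x ∈ T, x ∈ V := by
    intro x hx
    induction hx using Algebra.adjoin_induction with
    | mem x hx =>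
      rcases hx with ⟨g, -, rfl⟩ | ⟨a, ha, rfl⟩
      · simp only [pick]; split_ifs with h
        · exact h
        · exact (V.mem_or_inv_mem g).resolve_left h
      · rw [← V.valuation_le_one_iff, map_div₀]
        exact div_le_one_of_le₀ (hmax a ha) zero_le
    | algebraMap a => exact hVA a
    | add x y _ _ hx hy => exact V.add_mem _ _ hx hy
    | mul x y _ _ hx hy => exact V.mul_mem _ _ hx hy
  have hclosure : Subfield.closure (T : Set L) = ⊤ := by
    refine top_le_iff.mp (hG ▸ Subfield.closure_le.mpr ?_)
    rintro x (⟨a, rfl⟩ | hx)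
    · exact Subfield.subset_closure (T.algebraMap_mem a)
    · have h := Subfield.subset_closure (s := (T : Set L))
        (Algebra.subset_adjoin (Or.inl ⟨x, hx, rfl⟩) : pick x ∈ T)
      simp only [pick] at h
      split_ifs at h
      · exact h
      · simpa using Subfield.inv_mem _ h
  haveI : IsFractionRing T L := IsFractionRing.of_field T L fun z => by
    obtain ⟨y, hy, w, hw, rfl⟩ := Subfield.mem_closure_iff.mp (hclosure ▸ Subfield.mem_top z)
    rw [show Subring.closure (T : Set L) = T.toSubring from Subring.closure_eq T.toSubring] at hy hw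
    exact ⟨⟨y, hy⟩, ⟨w, hw⟩, rfl⟩
  let t₀ : T := algebraMap A T a₀
  let incl : T →+* V :=
    { toFun := fun x => ⟨x.1, hTV _ x.2⟩, map_one' := rfl, map_mul' := fun _ _ => rfl
      map_zero' := rfl, map_add' := fun _ _ => rfl }
  let c : Ideal T := (maximalIdeal V).comap incl
  have ht₀ : t₀ ∈ c := by
    change incl t₀ ∈ maximalIdeal V
    intro h
    exact ha₀m (hVloc.map_nonunit a₀ h)
  have hmA : (maximalIdeal A).map (algebraMap A T) ≤ Ideal.span {t₀} := by
    rw [← hs, Ideal.map_span, Ideal.span_le]
    rintro _ ⟨a, ha, rfl⟩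
    refine Ideal.mem_span_singleton'.mpr
      ⟨⟨_, (Algebra.subset_adjoin (Or.inr ⟨a, ha, rfl⟩) : algebraMap A L a / algebraMap A L a₀ ∈ T)⟩, ?_⟩
    exact Subtype.ext (div_mul_cancel₀ _ ha₀)
  haveI : c.IsPrime := Ideal.comap_isPrime _ _
  obtain ⟨P, hP, -⟩ :=
    Ideal.exists_minimalPrimes_le ((Ideal.span_singleton_le_iff_mem c).mpr ht₀)
  haveI := hP.1.1
  have hS : P.primeCompl ≤ nonZeroDivisors T := Ideal.primeCompl_le_nonZeroDivisors P
  let R := Localization.subalgebra.ofField L P.primeCompl hS
  haveI : IsLocalization.AtPrime R P := Localization.subalgebra.isLocalization_ofField L P.primeCompl hS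
  haveI : IsLocalRing R := IsLocalization.AtPrime.isLocalRing R P
  haveI : IsNoetherianRing R := IsLocalization.isNoetherianRing P.primeCompl R inferInstance
  have hh : P.height ≤ 1 := Ideal.height_le_one_of_isPrincipal_of_mem_minimalPrimes _ P hP
  haveI : Ring.KrullDimLE 1 R := by
    rw [Ring.krullDimLE_iff, IsLocalization.AtPrime.ringKrullDim_eq_height P R]
    exact_mod_cast hh
  have hPt : t₀ ∈ P := hP.1.2 (Ideal.mem_span_singleton_self _)
  have hR : ¬ IsField R := by
    intro h
    have : algebraMap T R t₀ = 0 := by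
      have h2 := (IsLocalization.AtPrime.to_map_mem_maximal_iff R P t₀).mpr hPt
      rw [isField_iff_maximalIdeal_eq.mp h] at h2
      exact h2
    exact ha₀ (congrArg Subtype.val this)
  obtain ⟨O, hO, hRO, hmO⟩ := exists_dvr_dim_one (L := L) R hR
  have e : ∀ a, algebraMap A L a = algebraMap R L (algebraMap T R (algebraMap A T a)) := fun a => rfl
  refine ⟨O, hO, fun a => by rw [e]; exact hRO _, fun a ha => ?_⟩
  rw [e]
  exact hmO _ ((IsLocalization.AtPrime.to_map_mem_maximal_iff R P _).mpr
    ((Ideal.span_singleton_le_iff_mem P).mpr hPt (hmA (Ideal.mem_map_of_mem _ ha))))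

end Groth.Agent.DvrDom
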